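set_option autoImplicit false
namespace Cfsg.Agent.Lib.Helper6.TCD.O73aL
noncomputable def HL0 (i : Nat) : Nat := Nat.land (Nat.shiftRight 0x1b21001b31001b31001a31001a31001a31001a31001a31001a21001a410019310019310019110019210019610019410019210019210019210019610019410019510018410018110018210018210018610018210018610018410018510018210018610018410018210018610018210018610018410018510018210017410017510017110017210017610017210017610017410017310017210017610017610017510017210017610017410017210017610017410017510017410017210017610017410017610017610017510017510017310016410016510016210016210016610016410016610016610016510016210016610016510016310016610016410016510016610016610016510016510016310016510016610016610016510016610016510016310016410015410015510015510015310015610015610015510015610015510015310015610015410015610015610015510015510015310015610015510015310015510015410015510015310015610015510015310015510015610015410015110014610014510014510014310014410014610014510014310014510014610014410014110014610014510014310014510014410014510014610014410014410014210014510014410014510014610014410014410014210013610013510013510013510013510013310013510013410013110013510013610013410013410013210013510013610013410013410013210013510013410013210013310013510013410013210013510013410013210013310012510012510012610012410012410012510012410012510012410012410012210012510012410012210012310012510012410012210012310012410012310012010012410012310012410012310012010011610011510011410011510011410011210011310011410011310011510011410011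21001131001141001131001101001141001131001101001131001111001131001111001131001111001021001051001041001031001041001031001001001031001011001041001031001001001031001011001031001011001021001021001021000f31000f01000f11000f51000f41000f31000f01000f31000f11000f21000f31000f11000f21000f21000f61000f61000f61000e01000e01000e31000e11000e21000e41000e31000e11000e21000e61000e21000e61000e61000e71000e71000e71000d01000d31000d11000d21000d11000d21000d61000d31000d21000d61000d71000d61000d71000d71000d61000d51000d31000c11000c21000c61000c21000c61000c71000c21000c61000c71000c51000c71000c61000c41000b21000b61000b71000b61000b71000b51000b61000b71000b41000b21000a61000a71000a51000a61000a71000a41000a71000a31000961000971000941000971000931000911000871000831000871000821000771000721000761000671000661000601000561000511000421000331000241000151000001 (Nat.mul 24 (Nat.land i 1023))) 16777215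
end Cfsg.Agent.Lib.Helper6.TCD.O73aL
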