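set_option autoImplicit false
namespace Cfsg.Agent.Lib.Helper6.TCD.O73aL
noncomputable def HL1 (i : Nat) : Nat := Nat.land (Nat.shiftRight 0x1721000000000000000000001721000000000000001611000000000000001621000000000000001631001621000000001651000000001621000000000000001621000000000000000000000000001621000000000000000000001651000000000000001631000000000000001521001521000000000000000000001551000000001521001551000000001531000000000000000000000000001551000000000000001531000000000000001551000000001551000000001531001541000000000000000000001431000000001451000000001451000000001431001451001441000000001451000000000000001431001451000000001431000000001441000000001531001451000000001431000000001451001441001411000000000000000000001331001341001351000000001331000000001351001341001311001351000000001331000000001341000000001351001341001341001321000000001441000000001351001341001341001321001251000000000000000000000000001231000000001241001211000000001251001241001241001221000000001251001241001241001221000000001241001221001231000000001341001321000000001241001221001231000000000000001151001141001141000000001241000000001141001141001121000000001141001121001131000000001141001121001131001141001131001101001241001231001141001131001101001051000000001041000000001041001021001031001341001121000000001041001021001031001041001031001001001041001031001001001031001011001131001111001031001011000f21000000000f41000f31000f41000f31000f01001231001021000f41000f31000f01000f31000f11000f31000f11000f21001021000f21000e31000e01000f31000000000e41000e31000e01000e31000e11001121000e31000e11000e21000e21000e51000f51000e51000d01000d01000d31000d11000e31000d41000d31000d11000d21001051000d21000d51000d51000d61000e61000d61000c01000c31000c11000d31000c11000c21000f21000c31000c21000c51000f61000c51000c61000c61000c51000d51000c31000b11000b21000e21000b21000b51001061000b21000b51000b61000e21000b61000b51000b41000a21000a51000f51000a51000a61000f11000a51000a61000a41000a21000951000961001001000951000961000941000961000931000851000861000841000861000831000811000761000731000761000721000661000621000651000561000551000501000451000411000321000231000141000001000000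 (Nat.mul 24 (Nat.land i 1023))) 16777215
end Cfsg.Agent.Lib.Helper6.TCD.O73aL
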