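set_option autoImplicit false
namespace Cfsg.Agent.Lib.Helper6.TCD.O73aL
noncomputable def HL2 (i : Nat) : Nat := Nat.land (Nat.shiftRight 0xc41000000000c11000000000000000000000000000000000000000000000000000000000000000000000000000000000000000000000000000000000000000b41000000000000000b21000000000000000000000b41000000000000000b21000000000000000000000000000000000000000000000000000000000000000000000000000000000000000000000a41000000000000000a21000000000000000a21000a31000000000000000b21000000000000000a21000a31000000000000000941000000000000000000000000000000000000000000000000000000000000000000000000000000000000000921000931000000000931000901000000000a31000000000931000901000841000000000000000000000000000821000831000000000921000000000000000000000000000000000000000000000000000831000801000831000811000931000911000831000811000721000000000000000000000000000731000701000a31000821000000000000000000000000000000000731000711000721000821000721000631000601000731000000000000000000000000000631000611000921000000000000000000000621000641000741000641000501000000000531000511000631000000000000000000000521000841000000000000000541000551000651000551000000000431000411000531000000000421000721000000000000000441000751000000000000000451000441000541000431000000000321000621000000000341000851000000000000000351000621000000000000000321000000000241000741000000000251000711000000000000000211000000000000000151000801000000000000000101000000000000000000000000000001000000000000000000000000000000000000000000000000000000000000000000000000000000000000000000000000000000000000000000000000 (Nat.mul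 24 (Nat.land i 1023))) 16777215
end Cfsg.Agent.Lib.Helper6.TCD.O73aL
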