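set_option autoImplicit false
namespace Cfsg.Agent.Lib.Helper6.TCD.O73aL
noncomputable def HL3 (i : Nat) : Nat := Nat.land (Nat.shiftRight 0x601000000000000000000000000000000000000000000000000000000000000000000000000000000000000000000000000000000000000000511000000000000000000000000000000000000000000000000000000000000000000000000000701000000000000000000000431000000000000000000000000000000000000000000000000000000000000000000000000000000000000000611000000000000000000000000000000000000000000000801000000000331000000000000000000000000000321000000000000000000000000000000000000000000000000000000000000000000000531000000000000000000000000000000000711000921000211000000000000000000000000000411000000000000000000000000000000000000000000000000000631000431000000000000000821000101000000000000000000000000000000000000000501000311000000000000000000000000000531000000000000000721000000000000000001000221000000000000000000000000000401000000000000000000000611000000000000000621000000000000000000000000000000000121000000000000000000000301000000000000000000000511000000000000000000000000000000000000000000000211000000000000000000000431000000000000000000000000000000000000000000000000000331000000000000000000000000000000000000000000000000000000000000000000000000000000000000000000000000000000000000000000000000000000000000000000000000000000000000000000000000000000000000000000000000000000000000000000000000 (Nat.mul 24 (Nat.land i 1023))) 16777215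
end Cfsg.Agent.Lib.Helper6.TCD.O73aL
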