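import Cfsg.Agent.Lib.Helper6.LB1
import Cfsg.Agent.Lib.Helper6.TCD.O73aL.Lv
set_option autoImplicit false
set_option maxRecDepth 1000000
set_option Elab.async false
open Cfsg.Agent.Lib.Helper6.TC
namespace Cfsg.Agent.Lib.Helper6.TCD.O73aL
open Cfsg.Agent.Lib.Helper6.TCD.O73a
theorem chkOrbL2 : chkOrb labL2 rnkL2 mvL2 20 364 = true := by decide +kernel
theorem cntL2 : cntLab labL2 1 364 = 90 := by decide +kernel
theorem fixL2_0_0 : Nat.beq (WL2_0 0) 0 = true := by decide +kernel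
theorem fixL2_0_1 : Nat.beq (WL2_0 1) 1 = true := by decide +kernel
theorem fixL2_1_0 : Nat.beq (WL2_1 0) 0 = true := by decide +kernel
theorem fixL2_1_1 : Nat.beq (WL2_1 1) 1 = true := by decide +kernel
theorem fixL2_2_0 : Nat.beq (WL2_2 0) 0 = true := by decide +kernel
theorem fixL2_2_1 : Nat.beq (WL2_2 1) 1 = true := by decide +kernel
theorem fixL2_3_0 : Nat.beq (WL2_3 0) 0 = true := by decide +kernel
theorem fixL2_3_1 : Nat.beq (WL2_3 1) 1 = true := by decide +kernel
theorem fixL2_4_0 : Nat.beq (WL2_4 0) 0 = true := by decide +kernel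
theorem fixL2_4_1 : Nat.beq (WL2_4 1) 1 = true := by decide +kernel
theorem fixL2_5_0 : Nat.beq (WL2_5 0) 0 = true := by decide +kernel
theorem fixL2_5_1 : Nat.beq (WL2_5 1) 1 = true := by decide +kernel
end Cfsg.Agent.Lib.Helper6.TCD.O73aL
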