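import Cfsg.Agent.Lib.Helper6.LB1
import Cfsg.Agent.Lib.Helper6.TCD.O73aL.Lv
set_option autoImplicit false
set_option maxRecDepth 1000000
set_option Elab.async false
open Cfsg.Agent.Lib.Helper6.TC
namespace Cfsg.Agent.Lib.Helper6.TCD.O73aL
open Cfsg.Agent.Lib.Helper6.TCD.O73a
theorem chkOrbL5 : chkOrb labL5 rnkL5 mvL5 4 364 = true := by decide +kernel
theorem cntL5 : cntLab labL5 1 364 = 2 := by decide +kernel
theorem fixL5_0_0 : Nat.beq (WL5_0 0) 0 = true := by decide +kernel
theorem fixL5_0_1 : Nat.beq (WL5_0 1) 1 = true := by decide +kernel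
theorem fixL5_0_2 : Nat.beq (WL5_0 20) 20 = true := by decide +kernel
theorem fixL5_0_3 : Nat.beq (WL5_0 84) 84 = true := by decide +kernel
theorem fixL5_0_4 : Nat.beq (WL5_0 3) 3 = true := by decide +kernel
end Cfsg.Agent.Lib.Helper6.TCD.O73aL
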